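import Groth.Agent.Lib.Helper5.PicLaw.Law
import Groth.Agent.Lib.Lead.QC.PullInv

/-!
# Homomorphisms out of the Picard group

`liftHom` : a multiplicative isomorphism-invariant function on invertible modules induces a monoid
homomorphism on the Picard group; `pbHom g : Pic Y →* Pic Y'`, the pullback homomorphism.
-/

set_option autoImplicit false
universe u
open CategoryTheory CategoryTheory.Limits AlgebraicGeometry TopologicalSpace Opposite

namespace Groth.Agent.H5.PicLaw

open Groth.Agent.LD Groth.Agent.LD.QC
open scoped Groth.Agent.H5.PicLaw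

section rep

variable {Y : Scheme.{u}}

/-- a representative of a class in the Picard group. -/
noncomputable def rep (x : PicLoc.PicSet Y) : Y.Modules :=
  Classical.choose (PicGrp.exists_eq_cls x)

theorem isInvertible_rep (x : PicLoc.PicSet Y) : PicF.IsInvertible (rep x) :=
  (Classical.choose_spec (PicGrp.exists_eq_cls x)).choose

theorem clsOf_rep (x : PicLoc.PicSet Y) : clsOf (rep x) = x := by
  rw [clsOf_eq (isInvertible_rep x)]
  exact ((Classical.choose_spec (PicGrp.exists_eq_cls x)).choose_spec).symm

theorem exists_clsOf_eq (x : PicLoc.PicSet Y) :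
    ∃ M : Y.Modules, PicF.IsInvertible M ∧ clsOf M = x :=
  ⟨rep x, isInvertible_rep x, clsOf_rep x⟩

end rep

section lift

variable {Y : Scheme.{u}} {Z : Type*} [Monoid Z] (F : Y.Modules → Z)
  (hiso : ∀ M N : Y.Modules, PicF.IsInvertible M → Nonempty (M ≅ N) → F M = F N)
  (hone : F (Coh.structureModule Y) = 1)
  (hmul : ∀ M N : Y.Modules, PicF.IsInvertible M → PicF.IsInvertible N →
    F (CohB1.tensorMod M N) = F M * F N)

/-- the monoid homomorphism on the Picard group induced by a multiplicative isomorphism
invariant of invertible modules. -/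
noncomputable def liftHom : PicLoc.PicSet Y →* Z where
  toFun x := F (rep x)
  map_one' := by
    rw [← hone]
    refine hiso _ _ (isInvertible_rep 1) ?_
    exact (clsOf_eq_one_iff (isInvertible_rep 1)).mp (clsOf_rep 1)
  map_mul' x y := by
    rw [← hmul _ _ (isInvertible_rep x) (isInvertible_rep y)]
    refine hiso _ _ (isInvertible_rep (x * y)) ?_
    refine (clsOf_eq_iff (isInvertible_rep (x * y))
      (isInvertible_tensorMod (isInvertible_rep x) (isInvertible_rep y))).mp ?_
    rw [clsOf_rep, clsOf_tensor (isInvertible_rep x) (isInvertible_rep y), clsOf_rep, clsOf_rep]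

theorem liftHom_clsOf (M : Y.Modules) (hM : PicF.IsInvertible M) :
    liftHom F hiso hone hmul (clsOf M) = F M := by
  change F (rep (clsOf M)) = F M
  refine hiso _ _ (isInvertible_rep _) ?_
  exact (clsOf_eq_iff (isInvertible_rep _) hM).mp (clsOf_rep _)

end lift

section pb

variable {Y Y' : Scheme.{u}} (g : Y' ⟶ Y)

/-- the pullback homomorphism `Pic Y →* Pic Y'`. -/
noncomputable def pbHom : PicLoc.PicSet Y →* PicLoc.PicSet Y' :=
  liftHom (fun M => clsOf ((Scheme.Modules.pullback g).obj M))
    (fun M N hM ⟨e⟩ => clsOf_iso ((Scheme.Modules.pullback g).mapIso e)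
      (isInvertible_pullback g hM))
    ((clsOf_iso (pbUnitIso g) (isInvertible_pullback g (isInvertible_unit Y))).trans clsOf_unit)
    (fun M N hM hN => by
      change clsOf ((Scheme.Modules.pullback g).obj (CohB1.tensorMod M N)) = _
      rw [clsOf_iso (pbTensorIso g M N hM hN)
        (isInvertible_pullback g (isInvertible_tensorMod hM hN)),
        clsOf_tensor (isInvertible_pullback g hM) (isInvertible_pullback g hN)])

theorem pbHom_clsOf (M : Y.Modules) (hM : PicF.IsInvertible M) :
    pbHom g (clsOf M) = clsOf ((Scheme.Modules.pullback g).obj M) :=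
  liftHom_clsOf _ _ _ _ M hM

end pb

end Groth.Agent.H5.PicLaw
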