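import Mathlib
import Groth.Prelude.Def_PicGrp
import Groth.Prelude.Def_FGA
import Groth.Agent.Lib.Lead.QC.TensorDesc
import Groth.Agent.Lib.Lead.QC.TensorComm
import Groth.Agent.Lib.Lead.QC.TensorPow
import Groth.Agent.Lib.Lead.QC.InvInverse
import Groth.Agent.Lib.Helper5.Glue.F

/-!
# The group law on the Picard group of a scheme (a term of `PicGrp.Law Y`), and a total class map
-/

set_option autoImplicit false
universe u
open CategoryTheory CategoryTheory.Limits AlgebraicGeometry TopologicalSpace Opposite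

namespace Groth.Agent.H5.PicLaw

open Groth.Agent.LD Groth.Agent.LD.QC

variable (Y : Scheme.{u})

theorem isInvertibleCl_mulCl {a b : PicF.Cl Y} (ha : PicF.IsInvertibleCl a)
    (hb : PicF.IsInvertibleCl b) : PicF.IsInvertibleCl (PicGrp.mulCl a b) := by
  obtain ⟨L, rfl, hL⟩ := ha
  obtain ⟨M, rfl, hM⟩ := hb
  exact ⟨CohB1.tensorMod L M, rfl, isInvertible_tensorMod hL hM⟩

/-- the product on invertible classes. -/
noncomputable def mul (a b : PicLoc.PicSet Y) : PicLoc.PicSet Y :=
  ⟨PicGrp.mulCl a.1 b.1, isInvertibleCl_mulCl Y a.2 b.2⟩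

theorem exists_inv (a : PicLoc.PicSet Y) : ∃ b : PicLoc.PicSet Y, mul Y b a = PicLoc.unitPicSet Y := by
  obtain ⟨L, hL, rfl⟩ := PicGrp.exists_eq_cls a
  obtain ⟨L', hL', ⟨e⟩⟩ := Groth.Agent.H5.Glue.exists_inverse L hL
  refine ⟨PicGrp.cls L' hL', Subtype.ext ?_⟩
  change PicF.cl (CohB1.tensorMod L' L) = PicF.cl (Coh.structureModule Y)
  rw [PicGrp.cl_eq_cl_iff]
  exact ⟨tensorCommGen L' L ≪≫ e⟩

/-- **the Picard group of a scheme is a commutative group under the tensor product.** -/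
noncomputable def law : PicGrp.Law Y where
  mul := mul Y
  mul_assoc a b c := by
    obtain ⟨L, hL, rfl⟩ := PicGrp.exists_eq_cls a
    obtain ⟨M, hM, rfl⟩ := PicGrp.exists_eq_cls b
    obtain ⟨N, hN, rfl⟩ := PicGrp.exists_eq_cls c
    haveI := qc_of_isInvertible L hL
    haveI := qc_of_isInvertible M hM
    haveI := qc_of_isInvertible N hN
    apply Subtype.ext
    change PicF.cl (CohB1.tensorMod (CohB1.tensorMod L M) N) =
      PicF.cl (CohB1.tensorMod L (CohB1.tensorMod M N))
    rw [PicGrp.cl_eq_cl_iff]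
    exact ⟨tensorAssoc L M N⟩
  one := PicLoc.unitPicSet Y
  one_mul a := by
    obtain ⟨L, hL, rfl⟩ := PicGrp.exists_eq_cls a
    haveI := qc_of_isInvertible L hL
    apply Subtype.ext
    change PicF.cl (CohB1.tensorMod (Coh.structureModule Y) L) = PicF.cl L
    rw [PicGrp.cl_eq_cl_iff]
    exact ⟨unitorL L⟩
  mul_one a := by
    obtain ⟨L, hL, rfl⟩ := PicGrp.exists_eq_cls a
    haveI := qc_of_isInvertible L hL
    apply Subtype.ext
    change PicF.cl (CohB1.tensorMod L (Coh.structureModule Y)) = PicF.cl L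
    rw [PicGrp.cl_eq_cl_iff]
    exact ⟨tensorCommGen _ _ ≪≫ unitorL L⟩
  inv a := (exists_inv Y a).choose
  inv_mul_cancel a := (exists_inv Y a).choose_spec
  mul_comm a b := by
    obtain ⟨L, hL, rfl⟩ := PicGrp.exists_eq_cls a
    obtain ⟨M, hM, rfl⟩ := PicGrp.exists_eq_cls b
    apply Subtype.ext
    change PicF.cl (CohB1.tensorMod L M) = PicF.cl (CohB1.tensorMod M L)
    rw [PicGrp.cl_eq_cl_iff]
    exact ⟨tensorCommGen L M⟩
  mul_val _ _ := rfl
  one_eq := rfl

/-- the group law as a scoped instance. -/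
noncomputable scoped instance instLaw (Y : Scheme.{u}) : PicGrp.Law Y := law Y

section clsOf

variable {Y}
variable [PicGrp.Law Y]

open Classical in
/-- the class of a module in the Picard group (`1` if the module is not invertible). -/
noncomputable def clsOf (M : Y.Modules) : PicLoc.PicSet Y :=
  if h : PicF.IsInvertible M then PicGrp.cls M h else 1

theorem clsOf_eq {M : Y.Modules} (hM : PicF.IsInvertible M) : clsOf M = PicGrp.cls M hM := by
  unfold clsOf
  rw [dif_pos hM]

theorem clsOf_unit : clsOf (Coh.structureModule Y) = 1 := by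
  rw [clsOf_eq (PicLoc.isInvertible_structureModule Y)]
  exact PicGrp.cls_structureModule_eq_one

theorem clsOf_tensor {M N : Y.Modules} (hM : PicF.IsInvertible M) (hN : PicF.IsInvertible N) :
    clsOf (CohB1.tensorMod M N) = clsOf M * clsOf N := by
  rw [clsOf_eq hM, clsOf_eq hN, clsOf_eq (isInvertible_tensorMod hM hN)]
  apply Subtype.ext
  rw [PicGrp.cls_mul_cls_val hM hN]
  rfl

theorem clsOf_pow {L : Y.Modules} (hL : PicF.IsInvertible L) (n : ℕ) :
    clsOf (CohB1.tensorPow L n) = clsOf L ^ n := by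
  rw [clsOf_eq hL, clsOf_eq (isInvertible_tensorPow hL n)]
  apply Subtype.ext
  rw [PicGrp.cls_pow_val hL n]
  rfl

theorem clsOf_eq_iff {M N : Y.Modules} (hM : PicF.IsInvertible M) (hN : PicF.IsInvertible N) :
    clsOf M = clsOf N ↔ Nonempty (M ≅ N) := by
  rw [clsOf_eq hM, clsOf_eq hN, PicGrp.cls_eq_cls_iff]

theorem isInvertible_of_iso {M N : Y.Modules} (e : M ≅ N) (hM : PicF.IsInvertible M) :
    PicF.IsInvertible N := by
  intro x
  obtain ⟨U, hxU, ⟨φ⟩⟩ := hM x
  exact ⟨U, hxU, ⟨(Scheme.Modules.restrictFunctor U.ι).mapIso e.symm ≪≫ φ⟩⟩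

theorem clsOf_iso {M N : Y.Modules} (e : M ≅ N) (hM : PicF.IsInvertible M) :
    clsOf M = clsOf N :=
  (clsOf_eq_iff hM (isInvertible_of_iso e hM)).mpr ⟨e⟩

theorem clsOf_eq_one_iff {M : Y.Modules} (hM : PicF.IsInvertible M) :
    clsOf M = 1 ↔ Nonempty (M ≅ Coh.structureModule Y) := by
  rw [clsOf_eq hM, PicGrp.cls_eq_one_iff]

theorem clsOf_mul_eq_one_iff {L M : Y.Modules} (hL : PicF.IsInvertible L)
    (hM : PicF.IsInvertible M) :
    clsOf L * clsOf M = 1 ↔ ClSub.IsInverseOf L M := by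
  rw [clsOf_eq hL, clsOf_eq hM, PicGrp.cls_mul_cls_eq_one_iff]
  rfl

theorem clsOf_eq_inv {L M : Y.Modules} (hL : PicF.IsInvertible L) (hM : PicF.IsInvertible M)
    (h : ClSub.IsInverseOf L M) : clsOf L = (clsOf M)⁻¹ :=
  eq_inv_of_mul_eq_one_left ((clsOf_mul_eq_one_iff hL hM).mpr h)

/-- the class of a tensor product of a list of invertible modules. -/
theorem clsOf_tensorList : ∀ (l : List Y.Modules), (∀ M ∈ l, PicF.IsInvertible M) →
    PicF.IsInvertible (FGA.tensorList l) ∧ clsOf (FGA.tensorList l) = (l.map clsOf).prod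
  | [], _ => ⟨isInvertible_unit Y, by
      change clsOf (Coh.structureModule Y) = _
      rw [clsOf_unit]
      rfl⟩
  | M :: l, h => by
      have hM : PicF.IsInvertible M := h M List.mem_cons_self
      obtain ⟨h1, h2⟩ := clsOf_tensorList l (fun N hN => h N (List.mem_cons_of_mem _ hN))
      refine ⟨isInvertible_tensorMod hM h1, ?_⟩
      change clsOf (CohB1.tensorMod M (FGA.tensorList l)) = _
      rw [clsOf_tensor hM h1, h2, List.map_cons, List.prod_cons]

theorem clsOf_multiTwist {n : ℕ} (L : Fin n → Y.Modules) (hL : ∀ i, PicF.IsInvertible (L i))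
    (a : Fin n → ℕ) :
    PicF.IsInvertible (FGA.multiTwist L a) ∧
      clsOf (FGA.multiTwist L a) = ∏ i, clsOf (L i) ^ a i := by
  obtain ⟨h1, h2⟩ := clsOf_tensorList ((List.finRange n).map fun i => CohB1.tensorPow (L i) (a i))
    (fun M hM => by
      obtain ⟨i, -, rfl⟩ := List.mem_map.mp hM
      exact isInvertible_tensorPow (hL i) (a i))
  refine ⟨h1, ?_⟩
  change clsOf (FGA.tensorList _) = _
  rw [h2, List.map_map, Fin.prod_univ_def]
  congr 1
  apply List.map_congr_left
  intro i _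
  exact clsOf_pow (hL i) (a i)

end clsOf

end Groth.Agent.H5.PicLaw
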